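import Groth.Agent.H47.FlatModel
import Groth.Agent.Lib.Lim.SmoothEtale

/-!
# Flatness descends through limits of schemes
-/

set_option autoImplicit false

universe u

open CategoryTheory CategoryTheory.Limits AlgebraicGeometry TensorProduct
open Groth.Agent.Lib.Lim.Basic Groth.Agent.Lib.Lim.Descend

namespace Groth.Agent.H2.FlatDescend

open Groth.Agent.H47 in
/-- A flat algebra of finite presentation has a flat model over a ring of finite type over `ℤ`. -/
theorem exists_flat_model (A B : Type u) [CommRing A] [CommRing B] [Algebra A B]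
    [Algebra.FinitePresentation A B] [Module.Flat A B] :
    ∃ (A₀ B₀ : Type u) (_ : CommRing A₀) (_ : CommRing B₀) (_ : Algebra A₀ A) (_ : Algebra A₀ B₀),
      Algebra.FiniteType ℤ A₀ ∧ Module.Flat A₀ B₀ ∧ Algebra.FinitePresentation A₀ B₀ ∧
        Nonempty (B ≃ₐ[A] A ⊗[A₀] B₀) := by
  classical
  obtain ⟨n, m, ⟨P⟩⟩ := Algebra.Presentation.exists_presentation_fin A B
  let R₀ := Algebra.adjoin ℤ P.coeffs
  have hR₀ : R₀.FG := Subalgebra.fg_def.mpr ⟨_, P.finite_coeffs, rfl⟩
  have : Algebra.FiniteType ℤ R₀ := R₀.fg_iff_finiteType.1 hR₀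
  have : IsNoetherianRing R₀ := Algebra.FiniteType.isNoetherianRing ℤ R₀
  have : P.HasCoeffs R₀ := ⟨by rw [Subalgebra.setRange_algebraMap]; exact Algebra.subset_adjoin⟩
  let B₁ := P.ModelOfHasCoeffs R₀
  let e₁ : (A ⊗[R₀] B₁) ≃ₐ[A] B := P.tensorModelOfHasCoeffsEquiv R₀
  let T₀ : Finset (Fin 1 → MvPolynomial (Fin n) R₀) :=
    Finset.univ.image fun r (_ : Fin 1) => P.relationOfHasCoeffs R₀ r
  let u : (Fin 1 → MvPolynomial (Fin n) R₀) ≃ₗ[MvPolynomial (Fin n) R₀] MvPolynomial (Fin n) R₀ :=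
    LinearEquiv.funUnique (Fin 1) _ _
  let e₂ : FlatStage.Pres T₀ ≃ₗ[R₀] B₁ :=
    (Submodule.Quotient.equiv _ (Ideal.span (Set.range (P.relationOfHasCoeffs R₀))) u (by
      rw [Submodule.map_span]
      congr 1
      ext y
      simp [T₀, u])).restrictScalars R₀
  have : Module.Flat A (A ⊗[R₀] B₁) := Module.Flat.of_linearEquiv e₁.toLinearEquiv
  have hA : Module.Flat A (A ⊗[R₀] FlatStage.Pres T₀) :=
    Module.Flat.of_linearEquiv (e₂.baseChange R₀ A _ _)
  obtain ⟨C, hC, hflat⟩ := FlatModel.exists_fg_subalgebra_flat T₀ A hA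
  have : Algebra.FiniteType R₀ C := C.fg_iff_finiteType.1 hC
  refine ⟨C, C ⊗[R₀] B₁, inferInstance, inferInstance, inferInstance, inferInstance,
    Algebra.FiniteType.trans (inferInstance : Algebra.FiniteType ℤ R₀) ‹Algebra.FiniteType R₀ C›,
    Module.Flat.of_linearEquiv (e₂.baseChange R₀ C _ _).symm, inferInstance, ⟨?_⟩⟩
  exact e₁.symm.trans (Algebra.TensorProduct.cancelBaseChange R₀ C A A B₁).symm

/-- Flat morphisms of finite presentation. -/
abbrev flatFp : MorphismProperty Scheme.{u} := @Flat ⊓ @LocallyOfFinitePresentation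

theorem flatFp_descends : Descends.{u} flatFp @LocallyOfFinitePresentation := by
  refine Lib.Lim.SmoothEtale.descends_of_model _ (fun {X Y} f hf => hf.2) fun R B φ hφ => ?_
  obtain ⟨h1, h2⟩ := hφ
  rw [HasRingHomProperty.Spec_iff (P := @Flat)] at h1
  rw [HasRingHomProperty.Spec_iff (P := @LocallyOfFinitePresentation)] at h2
  algebraize [φ.hom]
  obtain ⟨A₀, B₀, _, _, _, _, hft, hfl, hfp, ⟨e⟩⟩ := exists_flat_model R B
  obtain ⟨q, hq⟩ := Lib.Lim.SmoothEtale.isPullback_of_algEquiv e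
  refine ⟨CommRingCat.of A₀, CommRingCat.of B₀, CommRingCat.ofHom (algebraMap A₀ R),
    CommRingCat.ofHom (algebraMap A₀ B₀), q,
    Lib.Lim.SmoothEtale.lfp_terminal_of_finiteType A₀ hft, ⟨?_, ?_⟩, hq⟩
  · rw [HasRingHomProperty.Spec_iff (P := @Flat)]
    exact RingHom.flat_algebraMap_iff.2 hfl
  · rw [HasRingHomProperty.Spec_iff (P := @LocallyOfFinitePresentation)]
    exact RingHom.finitePresentation_algebraMap.2 hfp

end Groth.Agent.H2.FlatDescend
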